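import Cfsg.Agent.Lib.Helper60.F4.DataC

/-! Checks for the coset table (generated). -/

set_option autoImplicit false

namespace Cfsg.Agent.Lib.Helper60.F4

open Cfsg.Agent.Lib.Helper60.Cert
open Cfsg.Agent.Lib.Helper60.Ru (SData3 SOK3 chkW3 chkFl3)

theorem Cok_step_5 : allBelow (fun j => chkCAll model CD (Nat.add 2925 j)) 585 = true := by decide +kernel
theorem Cok_step_6 : allBelow (fun j => chkCAll model CD (Nat.add 3510 j)) 585 = true := by decide +kernel
theorem Cok_step_7 : allBelow (fun j => chkCAll model CD (Nat.add 4095 j)) 585 = true := by decide +kernel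
theorem Cok_step_8 : allBelow (fun j => chkCAll model CD (Nat.add 4680 j)) 585 = true := by decide +kernel
theorem Cok_step_9 : allBelow (fun j => chkCAll model CD (Nat.add 5265 j)) 585 = true := by decide +kernel

end Cfsg.Agent.Lib.Helper60.F4
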