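import Cfsg.Agent.Lib.Helper60.F4.DataU

/-! Checks for the table of `U` (generated). -/

set_option autoImplicit false

namespace Cfsg.Agent.Lib.Helper60.F4

open Cfsg.Agent.Lib.Helper60.Cert
open Cfsg.Agent.Lib.Helper60.Ru (SData3 SOK3 chkW3 chkFl3)

theorem Uok_nx_0 : allBelow (fun j => chkNxAll model UL (Nat.add 0 j)) 700 = true := by decide +kernel
theorem Uok_nx_1 : allBelow (fun j => chkNxAll model UL (Nat.add 700 j)) 700 = true := by decide +kernel
theorem Uok_nx_2 : allBelow (fun j => chkNxAll model UL (Nat.add 1400 j)) 700 = true := by decide +kernel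
theorem Uok_nx_3 : allBelow (fun j => chkNxAll model UL (Nat.add 2100 j)) 700 = true := by decide +kernel
theorem Uok_nx_4 : allBelow (fun j => chkNxAll model UL (Nat.add 2800 j)) 700 = true := by decide +kernel
theorem Uok_nx_5 : allBelow (fun j => chkNxAll model UL (Nat.add 3500 j)) 596 = true := by decide +kernel
theorem Uok_nx : ∀ j < 4096, chkNxAll model UL j = true := by
  intro j hj
  rcases Nat.lt_or_ge j 700 with h0 | h0
  · exact allBelow_off (chkNxAll model UL) 0 700 Uok_nx_0 j (Nat.zero_le j) h0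
  rcases Nat.lt_or_ge j 1400 with h1 | h1
  · exact allBelow_off (chkNxAll model UL) 700 700 Uok_nx_1 j h0 h1
  rcases Nat.lt_or_ge j 2100 with h2 | h2
  · exact allBelow_off (chkNxAll model UL) 1400 700 Uok_nx_2 j h1 h2
  rcases Nat.lt_or_ge j 2800 with h3 | h3
  · exact allBelow_off (chkNxAll model UL) 2100 700 Uok_nx_3 j h2 h3
  rcases Nat.lt_or_ge j 3500 with h4 | h4
  · exact allBelow_off (chkNxAll model UL) 2800 700 Uok_nx_4 j h3 h4
  exact allBelow_off (chkNxAll model UL) 3500 596 Uok_nx_5 j h4 hj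
theorem Uok_par_0 : allBelow (fun j => chkPar UL (Nat.add 0 j)) 4095 = true := by decide +kernel
theorem Uok_par : ∀ j < 4095, chkPar UL j = true := by
  intro j hj
  exact allBelow_off (chkPar UL) 0 4095 Uok_par_0 j (Nat.zero_le j) hj
theorem Uok_pos_0 : allBelow (fun j => UchkPos (Nat.add 0 j)) 4096 = true := by decide +kernel
theorem Uok_pos : ∀ j < 4096, UchkPos j = true := by
  intro j hj
  exact allBelow_off (UchkPos) 0 4096 Uok_pos_0 j (Nat.zero_le j) hj
theorem Uok_sort_0 : allBelow (fun j => UchkSort (Nat.add 0 j)) 4095 = true := by decide +kernel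
theorem Uok_sort : ∀ j < 4095, UchkSort j = true := by
  intro j hj
  exact allBelow_off (UchkSort) 0 4095 Uok_sort_0 j (Nat.zero_le j) hj
theorem Uok_cl_0 : allBelow (fun j => UchkCl (Nat.add 0 j)) 2048 = true := by decide +kernel
theorem Uok_cl : ∀ j < 2048, UchkCl j = true := by
  intro j hj
  exact allBelow_off (UchkCl) 0 2048 Uok_cl_0 j (Nat.zero_le j) hj
theorem Uok_pr_0 : allBelow (fun j => UchkPr (Nat.add 0 j)) 2047 = true := by decide +kernel
theorem Uok_pr : ∀ j < 2047, UchkPr j = true := by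
  intro j hj
  exact allBelow_off (UchkPr) 0 2047 Uok_pr_0 j (Nat.zero_le j) hj
theorem Uok_inv_0 : allBelow (fun j => UchkInv (Nat.add 0 j)) 1500 = true := by decide +kernel
theorem Uok_inv_1 : allBelow (fun j => UchkInv (Nat.add 1500 j)) 548 = true := by decide +kernel
theorem Uok_inv : ∀ j < 2048, UchkInv j = true := by
  intro j hj
  rcases Nat.lt_or_ge j 1500 with h0 | h0
  · exact allBelow_off (UchkInv) 0 1500 Uok_inv_0 j (Nat.zero_le j) h0
  exact allBelow_off (UchkInv) 1500 548 Uok_inv_1 j h0 hj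
theorem Uok_inj : ∀ i < UL.N, ∀ j < UL.N, model.toM (UL.T i) = model.toM (UL.T j) → i = j := by
  apply inj_of_sorted Uord Upos
  · intro j hj
    have h := Uok_pos j hj
    simp only [UchkPos, Bool.and_eq_true, Nat.blt_eq] at h
    exact ⟨h.1, Nat.eq_of_beq_eq_true h.2⟩
  · intro k hk
    have h := Uok_sort k (by change k + 1 < 4096 at hk; omega)
    simp only [UchkSort, Nat.blt_eq] at h
    exact h

theorem ULok : LOK model UL where
  t0 := by decide +kernel
  npos := by decide
  nx := Uok_nx
  par := Uok_par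
  inj := Uok_inj

end Cfsg.Agent.Lib.Helper60.F4
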