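import Cfsg.Agent.Lib.Helper60.F4.ChkC0
import Cfsg.Agent.Lib.Helper60.F4.ChkC1
import Cfsg.Agent.Lib.Helper60.F4.ChkC2
import Cfsg.Agent.Lib.Helper60.F4.ChkU

/-! Checks for the coset table, assembled, and small checks (generated). -/

set_option autoImplicit false

namespace Cfsg.Agent.Lib.Helper60.F4

open Cfsg.Agent.Lib.Helper60.Cert
open Cfsg.Agent.Lib.Helper60.Ru (SData3 SOK3 chkW3 chkFl3)

theorem Cok_step : ∀ j < 8775, chkCAll model CD j = true := by
  intro j hj
  rcases Nat.lt_or_ge j 585 with h0 | h0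
  · exact allBelow_off (chkCAll model CD) 0 585 Cok_step_0 j (Nat.zero_le j) h0
  rcases Nat.lt_or_ge j 1170 with h1 | h1
  · exact allBelow_off (chkCAll model CD) 585 585 Cok_step_1 j h0 h1
  rcases Nat.lt_or_ge j 1755 with h2 | h2
  · exact allBelow_off (chkCAll model CD) 1170 585 Cok_step_2 j h1 h2
  rcases Nat.lt_or_ge j 2340 with h3 | h3
  · exact allBelow_off (chkCAll model CD) 1755 585 Cok_step_3 j h2 h3
  rcases Nat.lt_or_ge j 2925 with h4 | h4
  · exact allBelow_off (chkCAll model CD) 2340 585 Cok_step_4 j h3 h4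
  rcases Nat.lt_or_ge j 3510 with h5 | h5
  · exact allBelow_off (chkCAll model CD) 2925 585 Cok_step_5 j h4 h5
  rcases Nat.lt_or_ge j 4095 with h6 | h6
  · exact allBelow_off (chkCAll model CD) 3510 585 Cok_step_6 j h5 h6
  rcases Nat.lt_or_ge j 4680 with h7 | h7
  · exact allBelow_off (chkCAll model CD) 4095 585 Cok_step_7 j h6 h7
  rcases Nat.lt_or_ge j 5265 with h8 | h8
  · exact allBelow_off (chkCAll model CD) 4680 585 Cok_step_8 j h7 h8
  rcases Nat.lt_or_ge j 5850 with h9 | h9
  · exact allBelow_off (chkCAll model CD) 5265 585 Cok_step_9 j h8 h9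
  rcases Nat.lt_or_ge j 6435 with h10 | h10
  · exact allBelow_off (chkCAll model CD) 5850 585 Cok_step_10 j h9 h10
  rcases Nat.lt_or_ge j 7020 with h11 | h11
  · exact allBelow_off (chkCAll model CD) 6435 585 Cok_step_11 j h10 h11
  rcases Nat.lt_or_ge j 7605 with h12 | h12
  · exact allBelow_off (chkCAll model CD) 7020 585 Cok_step_12 j h11 h12
  rcases Nat.lt_or_ge j 8190 with h13 | h13
  · exact allBelow_off (chkCAll model CD) 7605 585 Cok_step_13 j h12 h13
  exact allBelow_off (chkCAll model CD) 8190 585 Cok_step_14 j h13 hj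
theorem Cok_par_0 : allBelow (fun j => chkCPar model CD (Nat.add 0 j)) 8774 = true := by decide +kernel
theorem Cok_par : ∀ j < 8774, chkCPar model CD j = true := by
  intro j hj
  exact allBelow_off (chkCPar model CD) 0 8774 Cok_par_0 j (Nat.zero_le j) hj
theorem Cok_b_0 : allBelow (fun j => chkB (Nat.add 0 j)) 8775 = true := by decide +kernel
theorem Cok_b : ∀ j < 8775, chkB j = true := by
  intro j hj
  exact allBelow_off (chkB) 0 8775 Cok_b_0 j (Nat.zero_le j) hj
theorem Cok_pr_0 : allBelow (fun j => chkPrc (Nat.add 0 j)) 8774 = true := by decide +kernel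
theorem Cok_pr : ∀ j < 8774, chkPrc j = true := by
  intro j hj
  exact allBelow_off (chkPrc) 0 8774 Cok_pr_0 j (Nat.zero_le j) hj

theorem Cok : COK model CD where
  c0 := by decide +kernel
  npos := by decide
  step := Cok_step
  par := Cok_par

theorem ord_ok : allBelow chkOrd 2 = true := by decide +kernel
theorem e_ord : model.powP (lgen 2) 4 = model.oneP := by decide +kernel
theorem g8w_ok : allBelow (fun l => Nat.beq (g8 l) (g8w l)) 8 = true := by decide +kernel
theorem g8c_ok : allBelow (fun l => chkPairL (g8 l) (g8i l) (g8b l)) 8 = true := by decide +kernel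
theorem ew_ok : chkWord model g8 8 ew (lgen 2) = true := by decide +kernel
theorem a1w_ok : chkWord model g8 8 a1w a1L = true := by decide +kernel
theorem b1w_ok : chkWord model g8 8 b1w b1L = true := by decide +kernel
theorem a2w_ok : chkWord model g8 8 a2w a2L = true := by decide +kernel
theorem b2w_ok : chkWord model g8 8 b2w b2L = true := by decide +kernel
theorem a1I_ok : mulP a1L a1I = oneP := by decide +kernel
theorem b1I_ok : mulP b1L b1I = oneP := by decide +kernel
theorem a2I_ok : mulP a2L a2I = oneP := by decide +kernel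
theorem b2I_ok : mulP b2L b2I = oneP := by decide +kernel
theorem c1_ok : lgen 0 = mulP (mulP (mulP a1L b1L) a1I) b1I := by decide +kernel
theorem c2_ok : lgen 1 = mulP (mulP (mulP a2L b2L) a2I) b2I := by decide +kernel
theorem h1w_ok : chkWord model lgen 2 h1w (ugen 0) = true := by decide +kernel
theorem h2w_ok : chkWord model lgen 2 h2w (ugen 1) = true := by decide +kernel
theorem ugen2 : ugen 2 = lgen 2 := by decide +kernel

end Cfsg.Agent.Lib.Helper60.F4
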