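import Cfsg.Agent.Lib.Helper60.Ru.Syl3

/-!
Restricting tables of elements and coset tables to a shorter list of generators, and a few
more general facts for the certificate layer.
-/

set_option autoImplicit false

namespace Cfsg.Agent.Lib.Helper60.F4

open Cfsg.Agent.Lib.Helper60.Cert

theorem allBelow_of (f : ℕ → Bool) (n : ℕ) (h : ∀ j < n, f j = true) : allBelow f n = true := by
  induction n with
  | zero => rfl
  | succ n ih =>
    simp only [allBelow, Bool.and_eq_true]
    exact ⟨h n (Nat.lt_succ_self n), ih (fun j hj => h j (Nat.lt_succ_of_lt hj))⟩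

section

variable {M : Type*} [Monoid M] {μ : Model M}

/-- a table of elements restricted to an initial segment closed under the first generators -/
theorem LOK_sub {D D' : LData} (ok : LOK μ D) (hgen : D'.gen = D.gen) (hT : D'.T = D.T)
    (hnx : D'.nx = D.nx) (hpar : D'.par = D.par) (hlt : D'.lt = D.lt) (hN : D'.N ≤ D.N)
    (hr : D'.r ≤ D.r) (hpos : 0 < D'.N) (hcl : ∀ j < D'.N, ∀ l < D'.r, D.nx l j < D'.N)
    (hpr : ∀ j < D'.N - 1, D.lt (j + 1) < D'.r) : LOK μ D' where
  t0 := by rw [hT]; exact ok.t0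
  npos := hpos
  nx := by
    intro j hj
    apply allBelow_of
    intro l hl
    obtain ⟨h1, _⟩ := chkNx_spec ok j (lt_of_lt_of_le hj hN) l (lt_of_lt_of_le hl hr)
    simp only [chkNx, Bool.and_eq_true, Nat.blt_eq]
    rw [hgen, hT, hnx]
    exact ⟨by rw [h1]; exact Nat.beq_refl _, hcl j hj l hl⟩
  par := by
    intro j hj
    have h := ok.par j (by omega)
    simp only [chkPar, Bool.and_eq_true, Nat.blt_eq, Nat.succ_eq_add_one] at h ⊢
    rw [hpar, hlt, hnx]
    exact ⟨⟨h.1.1, hpr j hj⟩, h.2⟩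
  inj := fun i hi j hj h =>
    ok.inj i (lt_of_lt_of_le hi hN) j (lt_of_lt_of_le hj hN) (by rw [hT] at h; exact h)

/-- a coset table restricted to the first generators -/
theorem COK_sub {D D' : CData} (ok : COK μ D) (hgen : D'.gen = D.gen) (hC : D'.C = D.C)
    (hs : D'.s = D.s) (hw : D'.w = D.w) (hpar : D'.par = D.par) (hlt : D'.lt = D.lt)
    (hn : D'.n = D.n) (hr : D'.r ≤ D.r) (hpr : ∀ i < D'.n - 1, D.lt (i + 1) < D'.r) :
    COK μ D' where
  c0 := by rw [hC]; exact ok.c0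
  npos := by rw [hn]; exact ok.npos
  step := by
    intro i hi
    apply allBelow_of
    intro l hl
    obtain ⟨h1, h2⟩ := chkC_spec ok i (hn ▸ hi) l (lt_of_lt_of_le hl hr)
    simp only [chkC, Bool.and_eq_true, Nat.blt_eq]
    rw [hgen, hC, hs, hw, hn]
    exact ⟨by rw [h1]; exact Nat.beq_refl _, h2⟩
  par := by
    intro i hi
    have h := ok.par i (by rw [← hn]; exact hi)
    simp only [chkCPar, Bool.and_eq_true, Nat.blt_eq, Nat.succ_eq_add_one] at h ⊢
    rw [hpar, hlt, hs, hw]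
    exact ⟨⟨⟨h.1.1.1, hpr i hi⟩, h.1.2⟩, h.2⟩

variable {𝒢 : Type*} [Group 𝒢] {ψ : 𝒢 →* M}

/-- the packed inverse of a realised element is realised -/
theorem real_inv {S : Subgroup 𝒢} {a b : ℕ} (ha : Real μ ψ S a) (h : μ.mulP a b = μ.oneP) :
    Real μ ψ S b := by
  obtain ⟨g, hg, hga⟩ := ha
  exact ⟨g⁻¹, S.inv_mem hg, Cfsg.Agent.Lib.Helper60.Ru.inv_val_of_chk hga h⟩

/-- a packed element with a power equal to one is the value of a unit -/
theorem exists_unit_of_pow' {N : Type*} [Monoid N] {ν : Model N} {m n : ℕ} (hn : 0 < n)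
    (h : ν.powP m n = ν.oneP) : ∃ g : Nˣ, (g : N) = ν.toM m := by
  have h1 : ν.toM m ^ n = 1 := by rw [← ν.toM_powP, h, ν.toM_one]
  obtain ⟨k, rfl⟩ : ∃ k, n = k + 1 := ⟨n - 1, by omega⟩
  exact ⟨⟨ν.toM m, ν.toM m ^ k, by rw [← pow_succ', h1], by rw [← pow_succ, h1]⟩, rfl⟩

end

end Cfsg.Agent.Lib.Helper60.F4
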