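import Cfsg.Prelude.Def_LieTwisted
import Cfsg.Agent.Lib.Helper60.F4.DataC
import Cfsg.Agent.Lib.Helper60.F4.Sub

/-!
The group `²F₄(2)` of the Prelude (a subgroup of the adjoint Chevalley group of type `F₄` over
the field with two elements, 52 × 52 matrices) in packed form: its generating words evaluate to
eight explicit packed matrices.
-/

set_option autoImplicit false

namespace Cfsg.Agent.Lib.Helper60.F4

open Cfsg Cfsg.Lie Cfsg.Agent.Lib.Helper60.Cert

/-- the invertible matrices on the Chevalley basis -/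
abbrev GLf := GL chevF4.Idx (ZMod 2)

/-- numbering of the Chevalley basis -/
def e52 : chevF4.Idx ≃ Fin 52 := (finSumFinEquiv : Fin 4 ⊕ Fin 48 ≃ Fin (4 + 48))

/-- reindexing of matrices -/
def reF : Matrix chevF4.Idx chevF4.Idx (ZMod 2) →* Mat where
  toFun M := M.submatrix e52.symm e52.symm
  map_one' := Matrix.submatrix_one_equiv e52.symm
  map_mul' M N := (Matrix.submatrix_mul_equiv M N e52.symm e52.symm e52.symm).symm

theorem reF_inj : Function.Injective reF := by
  intro M N h
  ext i j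
  have := congrFun (congrFun h (e52 i)) (e52 j)
  simpa [reF] using this

/-- the packed-model homomorphism -/
def ψF : GLf →* Mat := reF.comp (Units.coeHom _)

theorem ψF_inj : Function.Injective ψF := fun _ _ h => Units.ext (reF_inj h)

theorem ψF_val (g : GLf) : ψF g = reF (g : Matrix chevF4.Idx chevF4.Idx (ZMod 2)) := rfl

/-- entries of a root element -/
def entX (r : ℕ) (t : ZMod 2) (i j : Fin 52) : ZMod 2 :=
  chevF4.x (ZMod 2) r t (e52.symm i) (e52.symm j)

/-- entries of a packed matrix -/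
def entL (lit : ℕ) (i j : Fin 52) : ZMod 2 := toMat lit i j

/-- the packed root elements -/
def xLit (r : ℕ) : ℕ :=
  match r with
  | 33 => xL33 | 24 => xL24 | 14 => xL14 | 23 => xL23
  | 27 => xL27 | 25 => xL25 | 28 => xL28 | 30 => xL30
  | 20 => xL20 | 22 => xL22 | 19 => xL19 | _ => xL17

/-- the packed form of `x_r(t)` -/
def xP (r : ℕ) (t : ZMod 2) : ℕ := if t = 0 then oneP else xLit r

theorem x33_ok : ∀ t : ZMod 2, ∀ i j : Fin 52, entX 33 t i j = entL (xP 33 t) i j := by decide +kernel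
theorem x24_ok : ∀ t : ZMod 2, ∀ i j : Fin 52, entX 24 t i j = entL (xP 24 t) i j := by decide +kernel
theorem x14_ok : ∀ t : ZMod 2, ∀ i j : Fin 52, entX 14 t i j = entL (xP 14 t) i j := by decide +kernel
theorem x23_ok : ∀ t : ZMod 2, ∀ i j : Fin 52, entX 23 t i j = entL (xP 23 t) i j := by decide +kernel
theorem x27_ok : ∀ t : ZMod 2, ∀ i j : Fin 52, entX 27 t i j = entL (xP 27 t) i j := by decide +kernel
theorem x25_ok : ∀ t : ZMod 2, ∀ i j : Fin 52, entX 25 t i j = entL (xP 25 t) i j := by decide +kernel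
theorem x28_ok : ∀ t : ZMod 2, ∀ i j : Fin 52, entX 28 t i j = entL (xP 28 t) i j := by decide +kernel
theorem x30_ok : ∀ t : ZMod 2, ∀ i j : Fin 52, entX 30 t i j = entL (xP 30 t) i j := by decide +kernel
theorem x20_ok : ∀ t : ZMod 2, ∀ i j : Fin 52, entX 20 t i j = entL (xP 20 t) i j := by decide +kernel
theorem x22_ok : ∀ t : ZMod 2, ∀ i j : Fin 52, entX 22 t i j = entL (xP 22 t) i j := by decide +kernel
theorem x19_ok : ∀ t : ZMod 2, ∀ i j : Fin 52, entX 19 t i j = entL (xP 19 t) i j := by decide +kernel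
theorem x17_ok : ∀ t : ZMod 2, ∀ i j : Fin 52, entX 17 t i j = entL (xP 17 t) i j := by decide +kernel

/-- the roots occurring in the generating words -/
def roots12 : List ℕ := [33, 24, 14, 23, 27, 25, 28, 30, 20, 22, 19, 17]

theorem reF_x (r : ℕ) (hr : r ∈ roots12) (t : ZMod 2) :
    reF (chevF4.x (ZMod 2) r t) = toMat (xP r t) := by
  simp only [roots12, List.mem_cons, List.not_mem_nil, or_false] at hr
  rcases hr with rfl | rfl | rfl | rfl | rfl | rfl | rfl | rfl | rfl | rfl | rfl | rfl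
  · exact Matrix.ext (x33_ok t)
  · exact Matrix.ext (x24_ok t)
  · exact Matrix.ext (x14_ok t)
  · exact Matrix.ext (x23_ok t)
  · exact Matrix.ext (x27_ok t)
  · exact Matrix.ext (x25_ok t)
  · exact Matrix.ext (x28_ok t)
  · exact Matrix.ext (x30_ok t)
  · exact Matrix.ext (x20_ok t)
  · exact Matrix.ext (x22_ok t)
  · exact Matrix.ext (x19_ok t)
  · exact Matrix.ext (x17_ok t)

/-- the packed form of a word in root elements -/
def wordP (w : List (ℕ × ZMod 2)) : ℕ := w.foldr (fun p acc => mulP (xP p.1 p.2) acc) oneP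

theorem reF_wordMat (w : List (ℕ × ZMod 2)) (h : ∀ p ∈ w, p.1 ∈ roots12) :
    reF (chevF4.wordMat (ZMod 2) w) = toMat (wordP w) := by
  induction w with
  | nil =>
    have : chevF4.wordMat (ZMod 2) [] = 1 := by simp [ChevalleyDatum.wordMat]
    rw [this, map_one]
    exact toMat_oneP.symm
  | cons p w ih =>
    have e : chevF4.wordMat (ZMod 2) (p :: w) =
        chevF4.x (ZMod 2) p.1 p.2 * chevF4.wordMat (ZMod 2) w := by
      simp [ChevalleyDatum.wordMat]
    rw [e, map_mul, reF_x p.1 (h p List.mem_cons_self) p.2,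
      ih (fun q hq => h q (List.mem_cons_of_mem _ hq))]
    exact (toMat_mulP _ _).symm

/-- the packed value is the identity or one of the eight generators -/
def chkW8 (v : ℕ) : Bool := Nat.beq v oneP || (List.range 8).any (fun l => Nat.beq v (g8 l))

theorem chkW8_spec {v : ℕ} (h : chkW8 v = true) : v = oneP ∨ ∃ l < 8, v = g8 l := by
  simp only [chkW8, Bool.or_eq_true, List.any_eq_true, List.mem_range] at h
  rcases h with h | ⟨l, hl, h⟩
  · exact Or.inl (Nat.eq_of_beq_eq_true h)
  · exact Or.inr ⟨l, hl, Nat.eq_of_beq_eq_true h⟩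

theorem pair1_ok : ∀ t : ZMod 2, chkW8 (wordP (f4PairWord 1 f4p1 f4p4 t)) = true := by
  decide +kernel
theorem pair2_ok : ∀ t : ZMod 2, chkW8 (wordP (f4PairWord 1 f4m1 f4m4 t)) = true := by
  decide +kernel
theorem b2a_ok : ∀ t u : ZMod 2,
    chkW8 (wordP (b2ClassWord 1 f4a f4b f4ab f4aab t u)) = true := by decide +kernel
theorem b2b_ok : ∀ t u : ZMod 2,
    chkW8 (wordP (b2ClassWord 1 f4ma f4mb f4mab f4maab t u)) = true := by decide +kernel

theorem roots_of_mem {w : List (ℕ × ZMod 2)} (hw : w ∈ f4Words (ZMod 2) 1) :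
    ∀ p ∈ w, p.1 ∈ roots12 := by
  rcases hw with ⟨t, rfl | rfl⟩ | ⟨t, u, rfl | rfl⟩
  · intro p hp
    simp only [f4PairWord, List.mem_cons, List.not_mem_nil, or_false] at hp
    rcases hp with rfl | rfl
    · exact (by decide : f4p1 ∈ roots12)
    · exact (by decide : f4p4 ∈ roots12)
  · intro p hp
    simp only [f4PairWord, List.mem_cons, List.not_mem_nil, or_false] at hp
    rcases hp with rfl | rfl
    · exact (by decide : f4m1 ∈ roots12)
    · exact (by decide : f4m4 ∈ roots12)
  · intro p hp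
    simp only [b2ClassWord, List.mem_cons, List.not_mem_nil, or_false] at hp
    rcases hp with rfl | rfl | rfl | rfl
    · exact (by decide : f4a ∈ roots12)
    · exact (by decide : f4b ∈ roots12)
    · exact (by decide : f4ab ∈ roots12)
    · exact (by decide : f4aab ∈ roots12)
  · intro p hp
    simp only [b2ClassWord, List.mem_cons, List.not_mem_nil, or_false] at hp
    rcases hp with rfl | rfl | rfl | rfl
    · exact (by decide : f4ma ∈ roots12)
    · exact (by decide : f4mb ∈ roots12)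
    · exact (by decide : f4mab ∈ roots12)
    · exact (by decide : f4maab ∈ roots12)

theorem chk_of_mem {w : List (ℕ × ZMod 2)} (hw : w ∈ f4Words (ZMod 2) 1) :
    chkW8 (wordP w) = true := by
  rcases hw with ⟨t, rfl | rfl⟩ | ⟨t, u, rfl | rfl⟩
  · exact pair1_ok t
  · exact pair2_ok t
  · exact b2a_ok t u
  · exact b2b_ok t u

/-- the eight generating words -/
def w8 (l : ℕ) : List (ℕ × ZMod 2) :=
  match l with
  | 0 => f4PairWord 1 f4p1 f4p4 1
  | 1 => f4PairWord 1 f4m1 f4m4 1
  | 2 => b2ClassWord 1 f4a f4b f4ab f4aab 1 0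
  | 3 => b2ClassWord 1 f4a f4b f4ab f4aab 0 1
  | 4 => b2ClassWord 1 f4a f4b f4ab f4aab 1 1
  | 5 => b2ClassWord 1 f4ma f4mb f4mab f4maab 1 0
  | 6 => b2ClassWord 1 f4ma f4mb f4mab f4maab 0 1
  | _ => b2ClassWord 1 f4ma f4mb f4mab f4maab 1 1

theorem w8_mem (l : ℕ) : w8 l ∈ f4Words (ZMod 2) 1 := by
  unfold w8
  split
  · exact Or.inl ⟨1, Or.inl rfl⟩
  · exact Or.inl ⟨1, Or.inr rfl⟩
  · exact Or.inr ⟨1, 0, Or.inl rfl⟩
  · exact Or.inr ⟨0, 1, Or.inl rfl⟩
  · exact Or.inr ⟨1, 1, Or.inl rfl⟩
  · exact Or.inr ⟨1, 0, Or.inr rfl⟩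
  · exact Or.inr ⟨0, 1, Or.inr rfl⟩
  · exact Or.inr ⟨1, 1, Or.inr rfl⟩

theorem w8_val : allBelow (fun l => Nat.beq (wordP (w8 l)) (g8 l)) 8 = true := by decide +kernel

/-- the group of the Prelude is generated by the eight packed matrices -/
theorem twistedF4_eq : twistedF4 (ZMod 2) 1 = genGrp model ψF g8 8 := by
  unfold twistedF4 ChevalleyDatum.genSubgroup genGrp
  apply le_antisymm
  · rw [Subgroup.closure_le]
    rintro g ⟨w, hw, hg⟩
    have hv : ψF g = toMat (wordP w) := by
      rw [ψF_val, hg]; exact reF_wordMat w (roots_of_mem hw)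
    rcases chkW8_spec (chk_of_mem hw) with h | ⟨l, hl, h⟩
    · have : g = 1 := by
        apply ψF_inj
        rw [hv, h, map_one]; exact toMat_oneP
      rw [this]; exact Subgroup.one_mem _
    · exact Subgroup.subset_closure ⟨l, hl, by rw [hv, h]; rfl⟩
  · rw [Subgroup.closure_le]
    rintro g ⟨l, hl, hg⟩
    apply Subgroup.subset_closure
    refine ⟨w8 l, w8_mem l, ?_⟩
    apply reF_inj
    rw [← ψF_val, hg, reF_wordMat (w8 l) (roots_of_mem (w8_mem l))]
    have := Nat.eq_of_beq_eq_true (allBelow_spec _ _ w8_val l hl)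
    rw [this]; rfl

/-- reindexing back -/
def reF' : Mat →* Matrix chevF4.Idx chevF4.Idx (ZMod 2) where
  toFun M := M.submatrix e52 e52
  map_one' := Matrix.submatrix_one_equiv e52
  map_mul' M N := (Matrix.submatrix_mul_equiv M N e52 e52 e52).symm

theorem reF_reF' (M : Mat) : reF (reF' M) = M := by
  ext i j
  simp [reF, reF']

/-- a packed matrix with a power equal to one is the value of an invertible matrix -/
theorem exists_of_pow {m n : ℕ} (hn : 0 < n) (h : model.powP m n = model.oneP) :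
    ∃ g : GLf, ψF g = model.toM m := by
  obtain ⟨u, hu⟩ := exists_unit_of_pow' (ν := model) hn h
  refine ⟨Units.map reF' u, ?_⟩
  rw [ψF_val]
  change reF (reF' (u : Mat)) = _
  rw [reF_reF', hu]

end Cfsg.Agent.Lib.Helper60.F4
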