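import Cfsg.Agent.Lib.Helper60.Cert.Syl

/-!
Packed 52 × 52 matrices over the field with two elements: one natural number per matrix
(bit `52 i + j` is the entry `(i, j)`), with a multiplication the kernel evaluates quickly,
as a model for the generic certificate layer.
-/

set_option autoImplicit false

namespace Cfsg.Agent.Lib.Helper60.F4

abbrev Mat := Matrix (Fin 52) (Fin 52) (ZMod 2)

/-- a bit as an element of `ZMod 2` -/
def b2z (b : Bool) : ZMod 2 := if b then 1 else 0

theorem b2z_xor (a b : Bool) : b2z (a ^^ b) = b2z a + b2z b := by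
  cases a <;> cases b <;> decide

theorem b2z_and (a b : Bool) : b2z (a && b) = b2z a * b2z b := by
  cases a <;> cases b <;> decide

theorem b2z_inj {a b : Bool} (h : b2z a = b2z b) : a = b := by
  cases a <;> cases b
  · rfl
  · exact absurd h (by decide)
  · exact absurd h (by decide)
  · rfl

/-- the matrix coded by a natural number -/
def toMat (x : ℕ) : Mat := Matrix.of fun i j => b2z (x.testBit (52 * i.val + j.val))

def ML : ℕ := 0x1000000000000100000000000010000000000001000000000000100000000000010000000000001000000000000100000000000010000000000001000000000000100000000000010000000000001000000000000100000000000010000000000001000000000000100000000000010000000000001000000000000100000000000010000000000001000000000000100000000000010000000000001000000000000100000000000010000000000001000000000000100000000000010000000000001000000000000100000000000010000000000001000000000000100000000000010000000000001000000000000100000000000010000000000001000000000000100000000000010000000000001000000000000100000000000010000000000001000000000000100000000000010000000000001000000000000100000000000010000000000001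
def M52 : ℕ := 4503599627370495

/-- the contribution of column `j` of `A` and row `j` of `B` -/
def term (A B j : ℕ) : ℕ :=
  Nat.mul (Nat.land (Nat.shiftRight A j) ML) (Nat.land (Nat.shiftRight B (Nat.mul 52 j)) M52)

/-- the packed product, recursively -/
def mulAcc (A B : ℕ) : ℕ → ℕ
  | 0 => 0
  | n + 1 => Nat.xor (mulAcc A B n) (term A B n)

/-- partial packed products -/
def mulP0 (_A _B : ℕ) : ℕ := 0
def mulP1 (A B : ℕ) : ℕ := Nat.xor (mulP0 A B) (term A B 0)
def mulP2 (A B : ℕ) : ℕ := Nat.xor (mulP1 A B) (term A B 1)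
def mulP3 (A B : ℕ) : ℕ := Nat.xor (mulP2 A B) (term A B 2)
def mulP4 (A B : ℕ) : ℕ := Nat.xor (mulP3 A B) (term A B 3)
def mulP5 (A B : ℕ) : ℕ := Nat.xor (mulP4 A B) (term A B 4)
def mulP6 (A B : ℕ) : ℕ := Nat.xor (mulP5 A B) (term A B 5)
def mulP7 (A B : ℕ) : ℕ := Nat.xor (mulP6 A B) (term A B 6)
def mulP8 (A B : ℕ) : ℕ := Nat.xor (mulP7 A B) (term A B 7)
def mulP9 (A B : ℕ) : ℕ := Nat.xor (mulP8 A B) (term A B 8)
def mulP10 (A B : ℕ) : ℕ := Nat.xor (mulP9 A B) (term A B 9)
def mulP11 (A B : ℕ) : ℕ := Nat.xor (mulP10 A B) (term A B 10)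
def mulP12 (A B : ℕ) : ℕ := Nat.xor (mulP11 A B) (term A B 11)
def mulP13 (A B : ℕ) : ℕ := Nat.xor (mulP12 A B) (term A B 12)
def mulP14 (A B : ℕ) : ℕ := Nat.xor (mulP13 A B) (term A B 13)
def mulP15 (A B : ℕ) : ℕ := Nat.xor (mulP14 A B) (term A B 14)
def mulP16 (A B : ℕ) : ℕ := Nat.xor (mulP15 A B) (term A B 15)
def mulP17 (A B : ℕ) : ℕ := Nat.xor (mulP16 A B) (term A B 16)
def mulP18 (A B : ℕ) : ℕ := Nat.xor (mulP17 A B) (term A B 17)
def mulP19 (A B : ℕ) : ℕ := Nat.xor (mulP18 A B) (term A B 18)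
def mulP20 (A B : ℕ) : ℕ := Nat.xor (mulP19 A B) (term A B 19)
def mulP21 (A B : ℕ) : ℕ := Nat.xor (mulP20 A B) (term A B 20)
def mulP22 (A B : ℕ) : ℕ := Nat.xor (mulP21 A B) (term A B 21)
def mulP23 (A B : ℕ) : ℕ := Nat.xor (mulP22 A B) (term A B 22)
def mulP24 (A B : ℕ) : ℕ := Nat.xor (mulP23 A B) (term A B 23)
def mulP25 (A B : ℕ) : ℕ := Nat.xor (mulP24 A B) (term A B 24)
def mulP26 (A B : ℕ) : ℕ := Nat.xor (mulP25 A B) (term A B 25)
def mulP27 (A B : ℕ) : ℕ := Nat.xor (mulP26 A B) (term A B 26)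
def mulP28 (A B : ℕ) : ℕ := Nat.xor (mulP27 A B) (term A B 27)
def mulP29 (A B : ℕ) : ℕ := Nat.xor (mulP28 A B) (term A B 28)
def mulP30 (A B : ℕ) : ℕ := Nat.xor (mulP29 A B) (term A B 29)
def mulP31 (A B : ℕ) : ℕ := Nat.xor (mulP30 A B) (term A B 30)
def mulP32 (A B : ℕ) : ℕ := Nat.xor (mulP31 A B) (term A B 31)
def mulP33 (A B : ℕ) : ℕ := Nat.xor (mulP32 A B) (term A B 32)
def mulP34 (A B : ℕ) : ℕ := Nat.xor (mulP33 A B) (term A B 33)
def mulP35 (A B : ℕ) : ℕ := Nat.xor (mulP34 A B) (term A B 34)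
def mulP36 (A B : ℕ) : ℕ := Nat.xor (mulP35 A B) (term A B 35)
def mulP37 (A B : ℕ) : ℕ := Nat.xor (mulP36 A B) (term A B 36)
def mulP38 (A B : ℕ) : ℕ := Nat.xor (mulP37 A B) (term A B 37)
def mulP39 (A B : ℕ) : ℕ := Nat.xor (mulP38 A B) (term A B 38)
def mulP40 (A B : ℕ) : ℕ := Nat.xor (mulP39 A B) (term A B 39)
def mulP41 (A B : ℕ) : ℕ := Nat.xor (mulP40 A B) (term A B 40)
def mulP42 (A B : ℕ) : ℕ := Nat.xor (mulP41 A B) (term A B 41)
def mulP43 (A B : ℕ) : ℕ := Nat.xor (mulP42 A B) (term A B 42)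
def mulP44 (A B : ℕ) : ℕ := Nat.xor (mulP43 A B) (term A B 43)
def mulP45 (A B : ℕ) : ℕ := Nat.xor (mulP44 A B) (term A B 44)
def mulP46 (A B : ℕ) : ℕ := Nat.xor (mulP45 A B) (term A B 45)
def mulP47 (A B : ℕ) : ℕ := Nat.xor (mulP46 A B) (term A B 46)
def mulP48 (A B : ℕ) : ℕ := Nat.xor (mulP47 A B) (term A B 47)
def mulP49 (A B : ℕ) : ℕ := Nat.xor (mulP48 A B) (term A B 48)
def mulP50 (A B : ℕ) : ℕ := Nat.xor (mulP49 A B) (term A B 49)
def mulP51 (A B : ℕ) : ℕ := Nat.xor (mulP50 A B) (term A B 50)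
def mulP52 (A B : ℕ) : ℕ := Nat.xor (mulP51 A B) (term A B 51)

/-- the packed product -/
def mulP (A B : ℕ) : ℕ := mulP52 A B

theorem mulP0_eq (A B : ℕ) : mulP0 A B = mulAcc A B 0 := rfl
theorem mulP1_eq (A B : ℕ) : mulP1 A B = mulAcc A B 1 :=
  congrArg (fun z => Nat.xor z (term A B 0)) (mulP0_eq A B)
theorem mulP2_eq (A B : ℕ) : mulP2 A B = mulAcc A B 2 :=
  congrArg (fun z => Nat.xor z (term A B 1)) (mulP1_eq A B)
theorem mulP3_eq (A B : ℕ) : mulP3 A B = mulAcc A B 3 :=
  congrArg (fun z => Nat.xor z (term A B 2)) (mulP2_eq A B)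
theorem mulP4_eq (A B : ℕ) : mulP4 A B = mulAcc A B 4 :=
  congrArg (fun z => Nat.xor z (term A B 3)) (mulP3_eq A B)
theorem mulP5_eq (A B : ℕ) : mulP5 A B = mulAcc A B 5 :=
  congrArg (fun z => Nat.xor z (term A B 4)) (mulP4_eq A B)
theorem mulP6_eq (A B : ℕ) : mulP6 A B = mulAcc A B 6 :=
  congrArg (fun z => Nat.xor z (term A B 5)) (mulP5_eq A B)
theorem mulP7_eq (A B : ℕ) : mulP7 A B = mulAcc A B 7 :=
  congrArg (fun z => Nat.xor z (term A B 6)) (mulP6_eq A B)
theorem mulP8_eq (A B : ℕ) : mulP8 A B = mulAcc A B 8 :=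
  congrArg (fun z => Nat.xor z (term A B 7)) (mulP7_eq A B)
theorem mulP9_eq (A B : ℕ) : mulP9 A B = mulAcc A B 9 :=
  congrArg (fun z => Nat.xor z (term A B 8)) (mulP8_eq A B)
theorem mulP10_eq (A B : ℕ) : mulP10 A B = mulAcc A B 10 :=
  congrArg (fun z => Nat.xor z (term A B 9)) (mulP9_eq A B)
theorem mulP11_eq (A B : ℕ) : mulP11 A B = mulAcc A B 11 :=
  congrArg (fun z => Nat.xor z (term A B 10)) (mulP10_eq A B)
theorem mulP12_eq (A B : ℕ) : mulP12 A B = mulAcc A B 12 :=
  congrArg (fun z => Nat.xor z (term A B 11)) (mulP11_eq A B)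
theorem mulP13_eq (A B : ℕ) : mulP13 A B = mulAcc A B 13 :=
  congrArg (fun z => Nat.xor z (term A B 12)) (mulP12_eq A B)
theorem mulP14_eq (A B : ℕ) : mulP14 A B = mulAcc A B 14 :=
  congrArg (fun z => Nat.xor z (term A B 13)) (mulP13_eq A B)
theorem mulP15_eq (A B : ℕ) : mulP15 A B = mulAcc A B 15 :=
  congrArg (fun z => Nat.xor z (term A B 14)) (mulP14_eq A B)
theorem mulP16_eq (A B : ℕ) : mulP16 A B = mulAcc A B 16 :=
  congrArg (fun z => Nat.xor z (term A B 15)) (mulP15_eq A B)
theorem mulP17_eq (A B : ℕ) : mulP17 A B = mulAcc A B 17 :=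
  congrArg (fun z => Nat.xor z (term A B 16)) (mulP16_eq A B)
theorem mulP18_eq (A B : ℕ) : mulP18 A B = mulAcc A B 18 :=
  congrArg (fun z => Nat.xor z (term A B 17)) (mulP17_eq A B)
theorem mulP19_eq (A B : ℕ) : mulP19 A B = mulAcc A B 19 :=
  congrArg (fun z => Nat.xor z (term A B 18)) (mulP18_eq A B)
theorem mulP20_eq (A B : ℕ) : mulP20 A B = mulAcc A B 20 :=
  congrArg (fun z => Nat.xor z (term A B 19)) (mulP19_eq A B)
theorem mulP21_eq (A B : ℕ) : mulP21 A B = mulAcc A B 21 :=
  congrArg (fun z => Nat.xor z (term A B 20)) (mulP20_eq A B)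
theorem mulP22_eq (A B : ℕ) : mulP22 A B = mulAcc A B 22 :=
  congrArg (fun z => Nat.xor z (term A B 21)) (mulP21_eq A B)
theorem mulP23_eq (A B : ℕ) : mulP23 A B = mulAcc A B 23 :=
  congrArg (fun z => Nat.xor z (term A B 22)) (mulP22_eq A B)
theorem mulP24_eq (A B : ℕ) : mulP24 A B = mulAcc A B 24 :=
  congrArg (fun z => Nat.xor z (term A B 23)) (mulP23_eq A B)
theorem mulP25_eq (A B : ℕ) : mulP25 A B = mulAcc A B 25 :=
  congrArg (fun z => Nat.xor z (term A B 24)) (mulP24_eq A B)
theorem mulP26_eq (A B : ℕ) : mulP26 A B = mulAcc A B 26 :=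
  congrArg (fun z => Nat.xor z (term A B 25)) (mulP25_eq A B)
theorem mulP27_eq (A B : ℕ) : mulP27 A B = mulAcc A B 27 :=
  congrArg (fun z => Nat.xor z (term A B 26)) (mulP26_eq A B)
theorem mulP28_eq (A B : ℕ) : mulP28 A B = mulAcc A B 28 :=
  congrArg (fun z => Nat.xor z (term A B 27)) (mulP27_eq A B)
theorem mulP29_eq (A B : ℕ) : mulP29 A B = mulAcc A B 29 :=
  congrArg (fun z => Nat.xor z (term A B 28)) (mulP28_eq A B)
theorem mulP30_eq (A B : ℕ) : mulP30 A B = mulAcc A B 30 :=
  congrArg (fun z => Nat.xor z (term A B 29)) (mulP29_eq A B)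
theorem mulP31_eq (A B : ℕ) : mulP31 A B = mulAcc A B 31 :=
  congrArg (fun z => Nat.xor z (term A B 30)) (mulP30_eq A B)
theorem mulP32_eq (A B : ℕ) : mulP32 A B = mulAcc A B 32 :=
  congrArg (fun z => Nat.xor z (term A B 31)) (mulP31_eq A B)
theorem mulP33_eq (A B : ℕ) : mulP33 A B = mulAcc A B 33 :=
  congrArg (fun z => Nat.xor z (term A B 32)) (mulP32_eq A B)
theorem mulP34_eq (A B : ℕ) : mulP34 A B = mulAcc A B 34 :=
  congrArg (fun z => Nat.xor z (term A B 33)) (mulP33_eq A B)
theorem mulP35_eq (A B : ℕ) : mulP35 A B = mulAcc A B 35 :=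
  congrArg (fun z => Nat.xor z (term A B 34)) (mulP34_eq A B)
theorem mulP36_eq (A B : ℕ) : mulP36 A B = mulAcc A B 36 :=
  congrArg (fun z => Nat.xor z (term A B 35)) (mulP35_eq A B)
theorem mulP37_eq (A B : ℕ) : mulP37 A B = mulAcc A B 37 :=
  congrArg (fun z => Nat.xor z (term A B 36)) (mulP36_eq A B)
theorem mulP38_eq (A B : ℕ) : mulP38 A B = mulAcc A B 38 :=
  congrArg (fun z => Nat.xor z (term A B 37)) (mulP37_eq A B)
theorem mulP39_eq (A B : ℕ) : mulP39 A B = mulAcc A B 39 :=
  congrArg (fun z => Nat.xor z (term A B 38)) (mulP38_eq A B)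
theorem mulP40_eq (A B : ℕ) : mulP40 A B = mulAcc A B 40 :=
  congrArg (fun z => Nat.xor z (term A B 39)) (mulP39_eq A B)
theorem mulP41_eq (A B : ℕ) : mulP41 A B = mulAcc A B 41 :=
  congrArg (fun z => Nat.xor z (term A B 40)) (mulP40_eq A B)
theorem mulP42_eq (A B : ℕ) : mulP42 A B = mulAcc A B 42 :=
  congrArg (fun z => Nat.xor z (term A B 41)) (mulP41_eq A B)
theorem mulP43_eq (A B : ℕ) : mulP43 A B = mulAcc A B 43 :=
  congrArg (fun z => Nat.xor z (term A B 42)) (mulP42_eq A B)
theorem mulP44_eq (A B : ℕ) : mulP44 A B = mulAcc A B 44 :=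
  congrArg (fun z => Nat.xor z (term A B 43)) (mulP43_eq A B)
theorem mulP45_eq (A B : ℕ) : mulP45 A B = mulAcc A B 45 :=
  congrArg (fun z => Nat.xor z (term A B 44)) (mulP44_eq A B)
theorem mulP46_eq (A B : ℕ) : mulP46 A B = mulAcc A B 46 :=
  congrArg (fun z => Nat.xor z (term A B 45)) (mulP45_eq A B)
theorem mulP47_eq (A B : ℕ) : mulP47 A B = mulAcc A B 47 :=
  congrArg (fun z => Nat.xor z (term A B 46)) (mulP46_eq A B)
theorem mulP48_eq (A B : ℕ) : mulP48 A B = mulAcc A B 48 :=
  congrArg (fun z => Nat.xor z (term A B 47)) (mulP47_eq A B)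
theorem mulP49_eq (A B : ℕ) : mulP49 A B = mulAcc A B 49 :=
  congrArg (fun z => Nat.xor z (term A B 48)) (mulP48_eq A B)
theorem mulP50_eq (A B : ℕ) : mulP50 A B = mulAcc A B 50 :=
  congrArg (fun z => Nat.xor z (term A B 49)) (mulP49_eq A B)
theorem mulP51_eq (A B : ℕ) : mulP51 A B = mulAcc A B 51 :=
  congrArg (fun z => Nat.xor z (term A B 50)) (mulP50_eq A B)
theorem mulP52_eq (A B : ℕ) : mulP52 A B = mulAcc A B 52 :=
  congrArg (fun z => Nat.xor z (term A B 51)) (mulP51_eq A B)

theorem mulP_eq (A B : ℕ) : mulP A B = mulAcc A B 52 := mulP52_eq A B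

theorem ML_sparse : ∀ n < 2704, ML.testBit n = true → n % 52 = 0 := by decide +kernel
theorem ML_lt : ML < 2 ^ 2704 := by decide +kernel
theorem ML_bit : ∀ i < 52, ML.testBit (52 * i) = true := by decide +kernel

theorem land_ML_sparse (a n : ℕ) (h : (a &&& ML).testBit n = true) : 52 ∣ n := by
  rw [Nat.testBit_and, Bool.and_eq_true] at h
  by_cases hn : n < 2704
  · exact Nat.dvd_of_mod_eq_zero (ML_sparse n hn h.2)
  · have : ML.testBit n = false := by
      apply Nat.testBit_lt_two_pow
      exact lt_of_lt_of_le ML_lt (Nat.pow_le_pow_right (by norm_num) (by omega))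
    rw [this] at h
    exact absurd h.2 (by simp)

theorem sparse_mul (i : ℕ) : ∀ (c r t : ℕ), (∀ n, c.testBit n = true → 52 ∣ n) → r < 2 ^ 52 →
    t < 52 → (c * r).testBit (52 * i + t) = (c.testBit (52 * i) && r.testBit t) := by
  induction i with
  | zero =>
    intro c r t hc hr ht
    have h0 : c % 2 ^ 52 < 2 ^ 1 := by
      apply Nat.lt_pow_two_of_testBit
      intro i hi
      rw [Nat.testBit_mod_two_pow]
      by_cases h28 : i < 52
      · by_contra hne
        have : c.testBit i = true := by simpa [h28] using hne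
        have := hc i this
        omega
      · simp [h28]
    have hcr : c * r = 2 ^ 52 * (c / 2 ^ 52 * r) + c % 2 ^ 52 * r := by
      conv_lhs => rw [← Nat.div_add_mod c (2 ^ 52)]
      ring
    have hlt : c % 2 ^ 52 * r < 2 ^ 52 := by
      have : c % 2 ^ 52 ≤ 1 := by omega
      nlinarith
    rw [hcr, Nat.mul_zero, Nat.zero_add, Nat.testBit_two_pow_mul_add _ hlt, if_pos ht]
    have hc0 : c.testBit 0 = decide (c % 2 ^ 52 = 1) := by
      rw [Nat.testBit_zero]
      have : c % 2 ^ 52 % 2 = c % 2 := Nat.mod_mod_of_dvd c (by norm_num)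
      have h2 : c % 2 ^ 52 < 2 := h0
      congr 1
      apply propext
      constructor <;> intro h <;> omega
    rw [hc0]
    rcases Nat.lt_succ_iff_lt_or_eq.mp (show c % 2 ^ 52 < 1 + 1 from h0) with h1 | h1
    · have : c % 2 ^ 52 = 0 := by omega
      rw [this]; simp
    · rw [h1]; simp
  | succ i ih =>
    intro c r t hc hr ht
    have h0 : c % 2 ^ 52 < 2 ^ 1 := by
      apply Nat.lt_pow_two_of_testBit
      intro i hi
      rw [Nat.testBit_mod_two_pow]
      by_cases h28 : i < 52
      · by_contra hne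
        have : c.testBit i = true := by simpa [h28] using hne
        have := hc i this
        omega
      · simp [h28]
    have hcr : c * r = 2 ^ 52 * (c / 2 ^ 52 * r) + c % 2 ^ 52 * r := by
      conv_lhs => rw [← Nat.div_add_mod c (2 ^ 52)]
      ring
    have hlt : c % 2 ^ 52 * r < 2 ^ 52 := by
      have : c % 2 ^ 52 ≤ 1 := by omega
      nlinarith
    have hge : ¬ (52 * (i + 1) + t < 52) := by omega
    rw [hcr, Nat.testBit_two_pow_mul_add _ hlt, if_neg hge]
    have e1 : 52 * (i + 1) + t - 52 = 52 * i + t := by omega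
    rw [e1, ih (c / 2 ^ 52) r t ?_ hr ht, Nat.testBit_div_two_pow]
    · congr 2
    · intro n hn
      rw [Nat.testBit_div_two_pow] at hn
      have := hc _ hn
      omega

theorem M52_eq : M52 = 2 ^ 52 - 1 := by decide

theorem term_bit (A B i j t : ℕ) (hi : i < 52) (ht : t < 52) :
    (term A B j).testBit (52 * i + t) = (A.testBit (52 * i + j) && B.testBit (52 * j + t)) := by
  change (((A >>> j) &&& ML) * ((B >>> (52 * j)) &&& M52)).testBit (52 * i + t) = _
  rw [sparse_mul i _ _ t (land_ML_sparse _) ?_ ht]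
  · rw [Nat.testBit_and, Nat.testBit_and, Nat.testBit_shiftRight, Nat.testBit_shiftRight,
      ML_bit i hi, M52_eq, Nat.testBit_two_pow_sub_one]
    simp [ht, Nat.add_comm]
  · exact Nat.and_lt_two_pow _ (by decide)

theorem mulAcc_bit (A B i t : ℕ) (hi : i < 52) (ht : t < 52) (n : ℕ) :
    b2z ((mulAcc A B n).testBit (52 * i + t)) =
      ∑ j ∈ Finset.range n, b2z (A.testBit (52 * i + j)) * b2z (B.testBit (52 * j + t)) := by
  induction n with
  | zero => simp [mulAcc, b2z]
  | succ n ih =>
    rw [Finset.sum_range_succ, ← ih]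
    change b2z ((mulAcc A B n ^^^ term A B n).testBit (52 * i + t)) = _
    rw [Nat.testBit_xor, b2z_xor, term_bit A B i n t hi ht, b2z_and]

theorem toMat_mulP (x y : ℕ) : toMat (mulP x y) = toMat x * toMat y := by
  refine Matrix.ext fun i k => ?_
  rw [Matrix.mul_apply]
  have hs : ∑ j : Fin 52, toMat x i j * toMat y j k =
      ∑ j ∈ Finset.range 52, b2z (x.testBit (52 * i.val + j)) * b2z (y.testBit (52 * j + k.val)) :=
    Fin.sum_univ_eq_sum_range
      (fun j => b2z (x.testBit (52 * i.val + j)) * b2z (y.testBit (52 * j + k.val))) 52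
  rw [hs, mulP_eq]
  exact mulAcc_bit x y i.val k.val i.isLt k.isLt 52

/-- the identity matrix, packed -/
def oneP : ℕ := 0x8000000000000400000000000020000000000001000000000000080000000000004000000000000200000000000010000000000000800000000000040000000000002000000000000100000000000008000000000000400000000000020000000000001000000000000080000000000004000000000000200000000000010000000000000800000000000040000000000002000000000000100000000000008000000000000400000000000020000000000001000000000000080000000000004000000000000200000000000010000000000000800000000000040000000000002000000000000100000000000008000000000000400000000000020000000000001000000000000080000000000004000000000000200000000000010000000000000800000000000040000000000002000000000000100000000000008000000000000400000000000020000000000001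
def M2704 : ℕ := 0xffffffffffffffffffffffffffffffffffffffffffffffffffffffffffffffffffffffffffffffffffffffffffffffffffffffffffffffffffffffffffffffffffffffffffffffffffffffffffffffffffffffffffffffffffffffffffffffffffffffffffffffffffffffffffffffffffffffffffffffffffffffffffffffffffffffffffffffffffffffffffffffffffffffffffffffffffffffffffffffffffffffffffffffffffffffffffffffffffffffffffffffffffffffffffffffffffffffffffffffffffffffffffffffffffffffffffffffffffffffffffffffffffffffffffffffffffffffffffffffffffffffffffffffffffffffffffffffffffffffffffffffffffffffffffffffffffffffffffffffffffffffffffffffffffffffffffffffffffffffffffffffffffffffffffffffffffffffffffffffffffffffffffffffffffffffffffffffffffff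

theorem toMat_oneP : toMat oneP = 1 := by decide +kernel

/-- reduction to the 2704 significant bits -/
def canon (x : ℕ) : ℕ := Nat.land x M2704

theorem canon_eq (a b : ℕ) (h : toMat a = toMat b) : canon a = canon b := by
  have hM : M2704 = 2 ^ 2704 - 1 := by decide +kernel
  apply Nat.eq_of_testBit_eq
  intro n
  change (a &&& M2704).testBit n = (b &&& M2704).testBit n
  rw [Nat.testBit_and, Nat.testBit_and, hM, Nat.testBit_two_pow_sub_one]
  by_cases hn : n < 2704
  · have hi : n / 52 < 52 := by omega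
    have hj : n % 52 < 52 := Nat.mod_lt _ (by norm_num)
    have h1 := congrFun (congrFun h ⟨n / 52, hi⟩) ⟨n % 52, hj⟩
    have h2 : a.testBit (52 * (n / 52) + n % 52) = b.testBit (52 * (n / 52) + n % 52) := b2z_inj h1
    rw [Nat.div_add_mod] at h2
    rw [h2]
  · simp [hn]

open Cfsg.Agent.Lib.Helper60.Cert in
/-- the model of packed matrices -/
def model : Model Mat where
  toM := toMat
  mulP := mulP
  oneP := oneP
  key := canon
  toM_mul := toMat_mulP
  toM_one := toMat_oneP
  key_eq := canon_eq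

end Cfsg.Agent.Lib.Helper60.F4
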