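import Cfsg.Agent.Lib.Helper60.F4.Gens
import Cfsg.Agent.Lib.Helper60.F4.ChkC
import Cfsg.Agent.Lib.Helper60.F4.ChkS3
import Cfsg.Agent.Lib.Helper60.F4.ChkS5

/-!
The group `²F₄(2)` of the Prelude has order 35942400, and each of its involutions lies in its
commutator subgroup; assembled from the kernel-checked tables.
-/

set_option autoImplicit false

namespace Cfsg.Agent.Lib.Helper60.F4

open Cfsg Cfsg.Lie Cfsg.Agent.Lib.Helper60.Cert

instance : Finite GLf := inferInstance

/-- the group generated by the eight packed generators (the group of the Prelude) -/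
def P8 : Subgroup GLf := genGrp model ψF g8 8
/-- the group generated by two commutators of order 13 and one more element -/
def Lg : Subgroup GLf := genGrp model ψF lgen 3
/-- the group generated by the two commutators -/
def Tg : Subgroup GLf := genGrp model ψF lgen 2
/-- a Sylow 2-subgroup -/
def Ug : Subgroup GLf := genGrp model ψF ugen 3
/-- its intersection with the derived subgroup -/
def Up : Subgroup GLf := genGrp model ψF ugen 2

theorem g8_ord : allBelow (fun l => Nat.beq (model.powP (g8 l) 4) model.oneP) 8 = true := by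
  decide +kernel

theorem hex8 : ∀ l < 8, ∃ g, ψF g = model.toM (g8 l) := fun l hl =>
  exists_of_pow (by norm_num) (Nat.eq_of_beq_eq_true (allBelow_spec _ _ g8_ord l hl))

theorem g8_real_P8 : ∀ l < 8, Real model ψF P8 (g8 l) := gen_real hex8

theorem lord : ∀ l < 2, model.powP (lgen l) 13 = model.oneP ∧
    model.neq (lgen l) model.oneP = true := by
  intro l hl
  have h := allBelow_spec _ _ ord_ok l hl
  simp only [chkOrd, Bool.and_eq_true] at h
  exact ⟨Nat.eq_of_beq_eq_true h.1, h.2⟩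

theorem hexl : ∀ l < 3, ∃ g, ψF g = model.toM (lgen l) := by
  intro l hl
  interval_cases l
  · exact exists_of_pow (by norm_num) (lord 0 (by norm_num)).1
  · exact exists_of_pow (by norm_num) (lord 1 (by norm_num)).1
  · exact exists_of_pow (by norm_num) e_ord

theorem hexl2 : ∀ l < 2, ∃ g, ψF g = model.toM (lgen l) := fun l hl => hexl l (by omega)

theorem lgen_real_Lg : ∀ l < 3, Real model ψF Lg (lgen l) := gen_real hexl

theorem lgen_real_Tg : ∀ l < 2, Real model ψF Tg (lgen l) := gen_real hexl2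

theorem Tg_le_Lg : Tg ≤ Lg := genGrp_le ψF_inj Lg (fun l hl => lgen_real_Lg l (by omega))

theorem ugen_real_Tg : ∀ l < 2, Real model ψF Tg (ugen l) := by
  intro l hl
  interval_cases l
  · exact real_of_chkWord lgen_real_Tg h1w_ok
  · exact real_of_chkWord lgen_real_Tg h2w_ok

theorem ugen_real_Lg : ∀ l < 3, Real model ψF Lg (ugen l) := by
  intro l hl
  interval_cases l
  · exact (ugen_real_Tg 0 (by norm_num)).mono Tg_le_Lg
  · exact (ugen_real_Tg 1 (by norm_num)).mono Tg_le_Lg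
  · exact (lgen_real_Lg 2 (by norm_num)).of_eq ugen2.symm

theorem hexu : ∀ l < 3, ∃ g, ψF g = model.toM (ugen l) := by
  intro l hl
  obtain ⟨g, _, hg⟩ := ugen_real_Lg l hl
  exact ⟨g, hg⟩

theorem hexu2 : ∀ l < 2, ∃ g, ψF g = model.toM (ugen l) := fun l hl => hexu l (by omega)

theorem Ug_le_Lg : Ug ≤ Lg := genGrp_le ψF_inj Lg ugen_real_Lg

theorem Up_le_Tg : Up ≤ Tg := genGrp_le ψF_inj Tg ugen_real_Tg

theorem UpLok : LOK model UpL := by
  refine LOK_sub (D := UL) (D' := UpL) ULok rfl rfl rfl rfl rfl (by decide) (by decide)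
    (by decide) ?_ ?_
  · intro j hj l hl
    have h := Uok_cl j hj
    simp only [UchkCl, Bool.and_eq_true, Nat.blt_eq] at h
    have hl2 : l < 2 := hl
    interval_cases l
    · exact h.1
    · exact h.2
  · intro j hj
    have h := Uok_pr j hj
    simp only [UchkPr, Nat.blt_eq] at h
    exact h

theorem card_Ug : Nat.card Ug = 4096 := by
  have h := card_L (D := UL) ULok ψF_inj hexu
  exact h

theorem UT_real_Ug : ∀ j < 4096, Real model ψF Ug (UT j) := L_sup (D := UL) ULok hexu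

theorem UT_real_Up : ∀ j < 2048, Real model ψF Up (UT j) := L_sup (D := UpL) UpLok hexu2

theorem DT_real_Lg : ∀ i < 8775, Real model ψF Lg (DT i) := C_sup (D := CD) Cok hexl

theorem card_Lg_le : Nat.card Lg ≤ 8775 * 4096 := by
  have hw : ∀ l < 3, ∀ i < 8775, Real model ψF Ug (UT (bc l i)) := by
    intro l hl i hi
    have h := Cok_b i hi
    simp only [chkB, Bool.and_eq_true, Nat.blt_eq] at h
    apply UT_real_Ug
    interval_cases l
    · exact lt_trans h.1.1 (by norm_num)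
    · exact lt_trans h.1.2 (by norm_num)
    · exact h.2
  have h := card_C_le (D := CD) Cok ψF_inj Ug hw
  rw [card_Ug] at h
  exact h

theorem real_Lg_of_pair {tgt i b : ℕ} (h : chkPairL tgt i b = true) : Real model ψF Lg tgt := by
  simp only [chkPairL, Bool.and_eq_true, Nat.blt_eq] at h
  obtain ⟨⟨hi, hb⟩, he⟩ := h
  have h1 : Real model ψF Lg (mulP (DT i) (UT b)) :=
    (DT_real_Lg i hi).mul ((UT_real_Ug b hb).mono Ug_le_Lg)
  exact h1.of_eq (Nat.eq_of_beq_eq_true he).symm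

theorem real_Lg_of_pairT {tgt i b : ℕ} (h : chkPairT tgt i b = true) : Real model ψF Lg tgt := by
  simp only [chkPairT, Bool.and_eq_true, Nat.blt_eq] at h
  obtain ⟨⟨hi, hb⟩, he⟩ := h
  have h1 : Real model ψF Lg (mulP (DT i) (UT b)) :=
    (DT_real_Lg i hi).mul ((UT_real_Ug b (lt_trans hb (by norm_num))).mono Ug_le_Lg)
  exact h1.of_eq (Nat.eq_of_beq_eq_true he).symm

theorem g8_real_Lg : ∀ l < 8, Real model ψF Lg (g8 l) :=
  fun l hl => real_Lg_of_pair (allBelow_spec _ _ g8c_ok l hl)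

theorem P8_le_Lg : P8 ≤ Lg := genGrp_le ψF_inj Lg g8_real_Lg

theorem a1_real : Real model ψF P8 a1L := real_of_chkWord g8_real_P8 a1w_ok
theorem b1_real : Real model ψF P8 b1L := real_of_chkWord g8_real_P8 b1w_ok
theorem a2_real : Real model ψF P8 a2L := real_of_chkWord g8_real_P8 a2w_ok
theorem b2_real : Real model ψF P8 b2L := real_of_chkWord g8_real_P8 b2w_ok

theorem lgen_real_P8 : ∀ l < 3, Real model ψF P8 (lgen l) := by
  intro l hl
  interval_cases l
  · exact (((a1_real.mul b1_real).mul (real_inv a1_real a1I_ok)).mul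
      (real_inv b1_real b1I_ok)).of_eq c1_ok.symm
  · exact (((a2_real.mul b2_real).mul (real_inv a2_real a2I_ok)).mul
      (real_inv b2_real b2I_ok)).of_eq c2_ok.symm
  · exact real_of_chkWord g8_real_P8 ew_ok

theorem Lg_le_P8 : Lg ≤ P8 := genGrp_le ψF_inj P8 lgen_real_P8

theorem P8_eq_Lg : P8 = Lg := le_antisymm P8_le_Lg Lg_le_P8

/-- the group of the Prelude -/
theorem twistedF4_eq_Lg : twistedF4 (ZMod 2) 1 = Lg := twistedF4_eq.trans P8_eq_Lg

/-! ### the order -/

theorem thirteen_dvd_Tg : 13 ∣ Nat.card Tg := by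
  haveI : Fact (Nat.Prime 13) := ⟨by norm_num⟩
  obtain ⟨g, hgT, hg⟩ := lgen_real_Tg 0 (by norm_num)
  have h0 := lord 0 (by norm_num)
  have h1 : orderOf g = 13 := orderOf_eq_prime_of ψF_inj hg h0.1 h0.2
  have := orderOf_dvd_natCard (⟨g, hgT⟩ : Tg)
  rwa [← Subgroup.orderOf_coe, h1] at this

theorem s3_hgen_Lg : ∀ l < s3L.r, Real model ψF Lg (s3L.gen l) :=
  fun l hl => real_Lg_of_pairT (allBelow_spec _ _ s3_gc l hl)

theorem s5_hgen_Lg : ∀ l < s5L.r, Real model ψF Lg (s5L.gen l) :=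
  fun l hl => real_Lg_of_pairT (allBelow_spec _ _ s5_gc l hl)

theorem card_eq_L (n : ℕ) (hpos : 0 < n) (d2 : 4096 ∣ n) (d3 : 27 ∣ n) (d5 : 25 ∣ n)
    (d13 : 13 ∣ n) (hle : n ≤ 8775 * 4096) : n = 35942400 := by
  have e1 : 4096 * 27 ∣ n := Nat.Coprime.mul_dvd_of_dvd_of_dvd (by norm_num) d2 d3
  have e2 : 4096 * 27 * 25 ∣ n := Nat.Coprime.mul_dvd_of_dvd_of_dvd (by norm_num) e1 d5
  have e3 : 4096 * 27 * 25 * 13 ∣ n := Nat.Coprime.mul_dvd_of_dvd_of_dvd (by norm_num) e2 d13
  obtain ⟨k, rfl⟩ := e3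
  have : k = 1 := by omega
  subst this; rfl

theorem card_Lg : Nat.card Lg = 35942400 := by
  have d2 : 4096 ∣ Nat.card Lg := card_dvd_of_lok (D := UL) ψF_inj Lg ULok ugen_real_Lg
  have d3 : 27 ∣ Nat.card Lg := card_dvd_of_lok (D := s3L) ψF_inj Lg s3Lok s3_hgen_Lg
  have d5 : 25 ∣ Nat.card Lg := card_dvd_of_lok (D := s5L) ψF_inj Lg s5Lok s5_hgen_Lg
  have d13 : 13 ∣ Nat.card Lg := dvd_trans thirteen_dvd_Tg (Subgroup.card_dvd_of_le Tg_le_Lg)
  exact card_eq_L _ Nat.card_pos d2 d3 d5 d13 card_Lg_le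

/-! ### involutions -/

theorem arith_idx (x : ℕ) (h : x * 4096 = 35942400) : x = 8775 := by omega

theorem card_UgL : Nat.card (Ug.subgroupOf Lg) = 4096 :=
  (Nat.card_congr (Subgroup.subgroupOfEquivOfLe Ug_le_Lg).toEquiv).trans card_Ug

theorem idx_UgL : (Ug.subgroupOf Lg).index = 8775 := by
  have h1 := (Ug.subgroupOf Lg).index_mul_card
  have h2 : (Ug.subgroupOf Lg).index * 4096 = 35942400 :=
    (congrArg (fun t => (Ug.subgroupOf Lg).index * t) card_UgL).symm.trans (h1.trans card_Lg)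
  exact arith_idx _ h2

/-- every involution of the group is conjugate to an element of the derived part of `U` -/
theorem invol_conj (g : GLf) (hg : g ∈ Lg) (h2 : orderOf g = 2) :
    ∃ k ∈ Lg, k * g * k⁻¹ ∈ Tg := by
  haveI : Fact (Nat.Prime 2) := ⟨Nat.prime_two⟩
  have hP : IsPGroup 2 (Ug.subgroupOf Lg) := IsPGroup.of_card (n := 12) (by rw [card_UgL]; norm_num)
  have hidx : ¬ 2 ∣ (Ug.subgroupOf Lg).index := by rw [idx_UgL]; decide
  have hg2 : orderOf (⟨g, hg⟩ : Lg) = 2 := by rw [← Subgroup.orderOf_coe]; exact h2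
  have hpg : IsPGroup 2 (Subgroup.zpowers (⟨g, hg⟩ : Lg)) :=
    IsPGroup.of_card (n := 1) (by rw [Nat.card_zpowers, hg2, pow_one])
  obtain ⟨Q, hQ⟩ := hpg.exists_le_sylow
  obtain ⟨k, hk⟩ := MulAction.exists_smul_eq Lg Q (hP.toSylow hidx)
  have h1 : (⟨g, hg⟩ : Lg) ∈ (Q : Subgroup Lg) := hQ (Subgroup.mem_zpowers _)
  have h3 : k * (⟨g, hg⟩ : Lg) * k⁻¹ ∈ ((k • Q : Sylow 2 Lg) : Subgroup Lg) := by
    rw [Sylow.smul_def, Sylow.pointwise_smul_def, Subgroup.mem_pointwise_smul_iff_inv_smul_mem]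
    simpa [MulAut.smul_def, mul_assoc] using h1
  rw [hk] at h3
  have h4 : k * (⟨g, hg⟩ : Lg) * k⁻¹ ∈ Ug.subgroupOf Lg := (IsPGroup.mem_toSylow hP hidx).mp h3
  have h5 : (k : GLf) * g * (k : GLf)⁻¹ ∈ Ug := by
    have h := Subgroup.mem_subgroupOf.mp h4
    simpa only [Subgroup.coe_mul, Subgroup.coe_inv] using h
  refine ⟨k, k.2, ?_⟩
  obtain ⟨j, hj, hjv⟩ := L_sub (D := UL) ULok _ h5
  have hsq : ((k : GLf) * g * (k : GLf)⁻¹) ^ 2 = 1 := by
    have : g ^ 2 = 1 := by
      have h := pow_orderOf_eq_one g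
      rwa [h2] at h
    rw [conj_pow, this, mul_one, mul_inv_cancel]
  have hj2 : j < 2048 := by
    by_contra hcon
    have h6 := Uok_inv (j - 2048) (by change j < 4096 at hj; omega)
    have e : Nat.add 2048 (j - 2048) = j := by change 2048 + (j - 2048) = j; omega
    simp only [UchkInv, e] at h6
    have h7 := model.toM_ne h6
    apply h7
    have h8 := congrArg ψF hsq
    rw [pow_two, map_mul, hjv, map_one] at h8
    change toMat (mulP (UT j) (UT j)) = toMat oneP
    rw [toMat_mulP, toMat_oneP]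
    exact h8
  obtain ⟨u, hu, huv⟩ := UT_real_Up j hj2
  have : (k : GLf) * g * (k : GLf)⁻¹ = u := ψF_inj (hjv.trans huv.symm)
  rw [this]
  exact Up_le_Tg hu

theorem comm_mem {G : Type*} [Group G] (a b : G) : a * b * a⁻¹ * b⁻¹ ∈ commutator G := by
  rw [commutator_def, ← commutatorElement_def]
  exact Subgroup.commutator_mem_commutator (Subgroup.mem_top _) (Subgroup.mem_top _)

/-- the subgroup generated by the two commutators lies in the commutator subgroup -/
theorem Tg_le_comm : Tg ≤ (commutator Lg).map Lg.subtype := by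
  have key : ∀ {aL bL aI bI c : ℕ}, Real model ψF P8 aL → Real model ψF P8 bL →
      mulP aL aI = oneP → mulP bL bI = oneP → c = mulP (mulP (mulP aL bL) aI) bI →
      Real model ψF ((commutator Lg).map Lg.subtype) c := by
    intro aL bL aI bI c ha hb hai hbi hc
    obtain ⟨a, haP, hav⟩ := ha
    obtain ⟨b, hbP, hbv⟩ := hb
    have haL : a ∈ Lg := P8_le_Lg haP
    have hbL : b ∈ Lg := P8_le_Lg hbP
    refine ⟨a * b * a⁻¹ * b⁻¹, ?_, ?_⟩
    · refine ⟨(⟨a, haL⟩ : Lg) * ⟨b, hbL⟩ * (⟨a, haL⟩ : Lg)⁻¹ * (⟨b, hbL⟩ : Lg)⁻¹, ?_, ?_⟩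
      · exact comm_mem _ _
      · simp only [Subgroup.coe_subtype, Subgroup.coe_mul, Subgroup.coe_inv]
    · rw [map_mul, map_mul, map_mul, hav, hbv,
        Cfsg.Agent.Lib.Helper60.Ru.inv_val_of_chk (μ := model) hav hai,
        Cfsg.Agent.Lib.Helper60.Ru.inv_val_of_chk (μ := model) hbv hbi, hc]
      change _ = toMat _
      rw [toMat_mulP, toMat_mulP, toMat_mulP]
      rfl
  apply genGrp_le ψF_inj
  intro l hl
  interval_cases l
  · exact key a1_real b1_real a1I_ok b1I_ok c1_ok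
  · exact key a2_real b2_real a2I_ok b2I_ok c2_ok

/-- every involution lies in the commutator subgroup -/
theorem invol_comm (g : Lg) (hg : orderOf g = 2) : g ∈ commutator Lg := by
  obtain ⟨k, hk, hmem⟩ := invol_conj g.1 g.2 (by rw [Subgroup.orderOf_coe]; exact hg)
  obtain ⟨y, hy, hyv⟩ := Tg_le_comm hmem
  have hy' : y = (⟨k, hk⟩ : Lg) * g * (⟨k, hk⟩ : Lg)⁻¹ := Subtype.ext hyv
  have hn : (commutator Lg).Normal := inferInstance
  have h := hn.conj_mem y hy (⟨k, hk⟩ : Lg)⁻¹
  rw [hy'] at h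
  simpa [mul_assoc] using h

theorem invol_transfer {A B : Subgroup GLf} (h : A = B)
    (hB : ∀ g : B, orderOf g = 2 → g ∈ commutator B) :
    ∀ g : A, orderOf g = 2 → g ∈ commutator A := by
  subst h
  exact hB

/-- every involution of `²F₄(2)` lies in its commutator subgroup -/
theorem invol_main (g : twistedF4 (ZMod 2) 1) (hg : orderOf g = 2) :
    g ∈ commutator (twistedF4 (ZMod 2) 1) :=
  invol_transfer twistedF4_eq_Lg invol_comm g hg

end Cfsg.Agent.Lib.Helper60.F4
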